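/-
Objects of the derived category of finite injective amplitude.
-/
import Mathlib.Algebra.Homology.DerivedCategory.KInjective
import Mathlib.Algebra.Homology.DerivedCategory.DerivabilityStructureInjectives
import Mathlib.Algebra.Homology.DerivedCategory.TStructure
import Mathlib.Algebra.Homology.HomotopyCategory.KInjective

open CategoryTheory Limits DerivedCategory HomologicalComplex

universe w v u

namespace Groth.Agent.InjAmp

variable {A : Type u} [Category.{v} A] [Abelian A] [HasDerivedCategory.{w} A]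

/-- All morphisms from objects placed in degree `i` to `X` vanish. -/
def Vanish (X : DerivedCategory A) (i : ℤ) : Prop :=
  ∀ (Y : A) (φ : (singleFunctor A i).obj Y ⟶ X), φ = 0

theorem vanish_iff_shift (X : DerivedCategory A) (i : ℤ) :
    Vanish X i ↔ ∀ (Y : A) (φ : (singleFunctor A 0).obj Y ⟶ X⟦i⟧), φ = 0 := by
  let e : singleFunctor A i ⋙ shiftFunctor (DerivedCategory A) i ≅ singleFunctor A 0 :=
    (singleFunctors A).shiftIso i 0 i (add_zero i)
  constructor
  · intro h Y φ
    obtain ⟨ψ, hψ⟩ := (shiftFunctor (DerivedCategory A) i).map_surjective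
      ((e.app Y).hom ≫ φ)
    rw [h Y ψ, Functor.map_zero] at hψ
    rw [← cancel_epi (e.app Y).hom, ← hψ, comp_zero]
  · intro h Y φ
    apply (shiftFunctor (DerivedCategory A) i).map_injective
    rw [Functor.map_zero]
    exact (cancel_epi (e.app Y).inv).1 ((h Y _).trans comp_zero.symm)

theorem Vanish.of_iso {X X' : DerivedCategory A} {i : ℤ} (h : Vanish X i) (e : X ≅ X') :
    Vanish X' i := fun Y φ => by
  rw [← cancel_mono e.inv, zero_comp]
  exact h Y _

theorem vanish_of_isKInjective (I : CochainComplex A ℤ) [I.IsKInjective] (i : ℤ)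
    (hI : IsZero (I.X i)) : Vanish (Q.obj I) i := by
  intro Y φ
  let S := (HomologicalComplex.single A (ComplexShape.up ℤ) i).obj Y
  let q := HomotopyCategory.quotient A (ComplexShape.up ℤ)
  let e := quotientCompQhIso A
  let s : (singleFunctor A i).obj Y ≅ Q.obj S := (singleFunctorIsoCompQ A i).app Y
  obtain ⟨g, hg⟩ := (CochainComplex.IsKInjective.Qh_map_bijective (q.obj S) I).2
    (e.hom.app S ≫ s.inv ≫ φ ≫ e.inv.app I)
  obtain ⟨g, rfl⟩ := q.map_surjective g
  have : g = 0 := HomologicalComplex.from_single_hom_ext (hI.eq_of_tgt _ _)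
  rw [this, Functor.map_zero, Functor.map_zero] at hg
  rw [← cancel_epi s.inv, ← cancel_epi (e.hom.app S), ← cancel_mono (e.inv.app I)]
  simpa using hg.symm

/-- A morphism from a single complex given by cycles. -/
noncomputable def fromCycles (K : CochainComplex A ℤ) (i : ℤ) :
    (HomologicalComplex.single A (ComplexShape.up ℤ) i).obj (K.cycles i) ⟶ K :=
  mkHomFromSingle (K.iCycles i) (fun k _ => K.iCycles_d i k)

theorem Q_map_fromCycles_eq_zero (K : CochainComplex A ℤ) (i : ℤ) (h : Vanish (Q.obj K) i) :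
    Q.map (fromCycles K i) = 0 := by
  let s := (singleFunctorIsoCompQ A i).app (K.cycles i)
  exact (cancel_epi s.hom).1 ((h _ _).trans comp_zero.symm)

theorem exactAt_of_vanish (K : CochainComplex A ℤ) (i : ℤ) (h : Vanish (Q.obj K) i) :
    K.ExactAt i := by
  let S := (HomologicalComplex.single A (ComplexShape.up ℤ) i).obj (K.cycles i)
  have h1 : HomologicalComplex.homologyMap (fromCycles K i) i = 0 := by
    have := (homologyFunctorFactors A i).hom.naturality (fromCycles K i)
    rw [Functor.comp_map, Q_map_fromCycles_eq_zero K i h, Functor.map_zero, zero_comp] at this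
    exact (cancel_epi ((homologyFunctorFactors A i).app _).hom).1 (this.symm.trans comp_zero.symm)
  have h2 : cyclesMap (fromCycles K i) i =
      S.iCycles i ≫ (singleObjXSelf (ComplexShape.up ℤ) i (K.cycles i)).hom := by
    rw [← cancel_mono (K.iCycles i), cyclesMap_i]
    simp [fromCycles, S]
  have : IsIso (S.iCycles i) := S.isIso_iCycles i (i + 1) (by simp) (by simp [S])
  have : IsIso (cyclesMap (fromCycles K i) i) := by
    rw [h2]
    infer_instance
  rw [HomologicalComplex.exactAt_iff_isZero_homology, IsZero.iff_id_eq_zero,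
    ← cancel_epi (K.homologyπ i), ← cancel_epi (cyclesMap (fromCycles K i) i)]
  simp [← HomologicalComplex.homologyπ_naturality, h1]

theorem isGE_of_vanish (X : DerivedCategory A) (a : ℤ) (h : ∀ i < a, Vanish X i) :
    X.IsGE a := by
  let K := Q.objPreimage X
  let e : Q.obj K ≅ X := Q.objObjPreimageIso X
  have : K.IsGE a := (CochainComplex.isGE_iff _ _).2 fun i hi =>
    exactAt_of_vanish K i ((h i hi).of_iso e.symm)
  have : (Q.obj K).IsGE a := (isGE_Q_obj_iff K a).2 this
  exact TStructure.t.isGE_of_iso e a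

theorem exists_injective_rep [EnoughInjectives A] (X : DerivedCategory A) (a : ℤ) [X.IsGE a] :
    ∃ (J : CochainComplex A ℤ), J.IsStrictlyGE a ∧ (∀ n, Injective (J.X n)) ∧
      Nonempty (X ≅ Q.obj J) := by
  obtain ⟨K, _, ⟨e⟩⟩ := X.exists_iso_Q_obj_of_isGE a
  obtain ⟨L, i, _, hL, hL'⟩ :=
    CochainComplex.Plus.modelCategoryQuillen.exists_quasiIso_injective K a
  exact ⟨L, hL', hL, ⟨e ≪≫ asIso (Q.map i)⟩⟩

theorem exists_section_toCycles (J : CochainComplex A ℤ) [J.IsKInjective] (i j : ℤ)
    (hij : i + 1 = j) (h : Vanish (Q.obj J) j) :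
    ∃ s : J.cycles j ⟶ J.X i, s ≫ J.toCycles i j = 𝟙 _ := by
  let q := HomotopyCategory.quotient A (ComplexShape.up ℤ)
  let e := quotientCompQhIso A
  have hq : q.map (fromCycles J j) = 0 := by
    apply (CochainComplex.IsKInjective.Qh_map_bijective _ J).1
    have := e.hom.naturality (fromCycles J j)
    rw [Q_map_fromCycles_eq_zero J j h, comp_zero] at this
    rw [Functor.map_zero]
    exact (cancel_mono _).1 (this.trans zero_comp.symm)
  have H : Homotopy (fromCycles J j) 0 :=
    HomotopyCategory.homotopyOfEq _ _ (hq.trans (Functor.map_zero _ _ _).symm)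
  refine ⟨(singleObjXSelf (ComplexShape.up ℤ) j (J.cycles j)).inv ≫ H.hom j i, ?_⟩
  have hc := H.comm j
  rw [dNext_eq _ (show (ComplexShape.up ℤ).Rel j (j + 1) from rfl),
    prevD_eq _ (show (ComplexShape.up ℤ).Rel i j from hij)] at hc
  rw [← cancel_mono (J.iCycles j), Category.assoc, Category.assoc, toCycles_i]
  simp [fromCycles] at hc
  rw [← hc]
  simp

theorem injective_truncLE (J : CochainComplex A ℤ) [J.IsKInjective] [∀ n, Injective (J.X n)]
    (b : ℤ) (h : ∀ i, b < i → Vanish (Q.obj J) i) (n : ℤ) :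
    Injective ((J.truncLE b).X n) := by
  rcases lt_trichotomy n b with hn | rfl | hn
  · exact Injective.of_iso (J.truncLEXIso b n hn).symm inferInstance
  · obtain ⟨s, hs⟩ := exists_section_toCycles J n (n + 1) rfl (h _ (by lia))
    let r : J.X n ⟶ J.cycles n := J.liftCycles (𝟙 _ - J.toCycles n (n + 1) ≫ s) (n + 1)
      (by simp) (by
        rw [Preadditive.sub_comp, Category.assoc, ← J.toCycles_i n (n + 1),
          reassoc_of% hs]
        simp)
    have hz : J.iCycles n ≫ J.toCycles n (n + 1) = 0 := by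
      rw [← cancel_mono (J.iCycles (n + 1))]
      simp
    have hr : J.iCycles n ≫ r = 𝟙 _ := by
      rw [← cancel_mono (J.iCycles n)]
      simp [r, reassoc_of% hz]
    refine Injective.of_iso (J.truncLEXIsoCycles n).symm ⟨fun {X Y} g f _ => ?_⟩
    exact ⟨Injective.factorThru (g ≫ J.iCycles n) f ≫ r, by
      rw [Injective.comp_factorThru_assoc, Category.assoc, hr, Category.comp_id]⟩
  · exact (CochainComplex.isZero_of_isStrictlyLE _ b n hn).injective

theorem quasiIso_ιTruncLE (J : CochainComplex A ℤ)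
    (b : ℤ) (h : ∀ i, b < i → Vanish (Q.obj J) i) : QuasiIso (J.ιTruncLE b) :=
  (CochainComplex.quasiIso_ιTruncLE_iff J b).2
    ((CochainComplex.isLE_iff _ _).2 fun i hi => exactAt_of_vanish J i (h i hi))

omit [HasDerivedCategory.{w} A] in
theorem isStrictlyGE_truncLE (J : CochainComplex A ℤ) (a b : ℤ) [J.IsStrictlyGE a] :
    (J.truncLE b).IsStrictlyGE a := by
  rw [CochainComplex.isStrictlyGE_iff]
  intro n hn
  rcases lt_trichotomy n b with hb | rfl | hb
  · exact (J.isZero_of_isStrictlyGE a n hn).of_iso (J.truncLEXIso b n hb)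
  · exact (IsZero.of_mono (J.iCycles n) (J.isZero_of_isStrictlyGE a n hn)).of_iso
      (J.truncLEXIsoCycles n)
  · exact CochainComplex.isZero_of_isStrictlyLE _ b n hb

/-- An object with vanishing outside `[a, b]` is represented by injectives in degrees `[a, b]`. -/
theorem exists_bounded_injective [EnoughInjectives A] (X : DerivedCategory A) (a b : ℤ)
    [X.IsGE a] (h : ∀ i, b < i → Vanish X i) :
    ∃ (I : CochainComplex A ℤ), I.IsStrictlyGE a ∧ I.IsStrictlyLE b ∧
      (∀ n, Injective (I.X n)) ∧ Nonempty (X ≅ Q.obj I) := by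
  obtain ⟨J, _, _, ⟨e⟩⟩ := exists_injective_rep X a
  have := CochainComplex.isKInjective_of_injective J a
  have hJ : ∀ i, b < i → Vanish (Q.obj J) i := fun i hi => (h i hi).of_iso e
  have := quasiIso_ιTruncLE J b hJ
  exact ⟨J.truncLE b, isStrictlyGE_truncLE J a b, inferInstance, injective_truncLE J b hJ,
    ⟨e ≪≫ (asIso (Q.map (J.ιTruncLE b))).symm⟩⟩

end Groth.Agent.InjAmp
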